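import Cfsg.Agent.Lib.CharGalois
import Cfsg.Agent.Lib.Char.Degree
import Cfsg.Agent.Lib.Char.Kernel
import Cfsg.Agent.Lib.Coprime.Action
import Mathlib.GroupTheory.Transfer

/-!
Blichfeldt: a linear group of degree at most `N` has an abelian Hall subgroup for the primes
greater than `N + 1`.
-/

set_option autoImplicit false
set_option linter.style.haveILetI false

open Subgroup
open scoped ComplexConjugate

namespace Cfsg.Agent.Lib.Blichfeldt

universe u

variable {G : Type u} [Group G]

/-- A faithful character of degree at most `N`. -/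
structure Faith (χ : G → ℂ) (N : ℕ) : Prop where
  char : IsCharacter G χ
  faith : ∀ g : G, χ g = χ 1 → g = 1
  deg : charDegree χ ≤ N

theorem Faith.restrict {χ : G → ℂ} {N : ℕ} (h : Faith χ N) (H : Subgroup G) :
    Faith (fun x : H => χ x) N where
  char := Char.isCharacter_restrict h.char H
  faith x hx := Subtype.ext (h.faith x hx)
  deg := le_of_eq_of_le rfl h.deg

theorem Faith.exists_constituent [Finite G] {χ : G → ℂ} {N : ℕ} (h : Faith χ N) {g : G}
    (hg : g ≠ 1) : ∃ φ : G → ℂ, IsIrrCharacter G φ ∧ charDegree φ ≤ N ∧ φ g ≠ φ 1 := by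
  letI := Fintype.ofFinite G
  classical
  obtain ⟨m, hm⟩ := Char.isCharacter_eq_sum h.char
  by_contra! hall
  apply hg
  refine h.faith g ?_
  rw [hm, Finset.sum_apply, Finset.sum_apply]
  refine Finset.sum_congr rfl fun φ _ => ?_
  rcases Nat.eq_zero_or_pos (m φ) with h0 | hpos
  · simp [h0]
  simp only [Pi.smul_apply, smul_eq_mul]
  rw [hall φ φ.2 ?_]
  have hsum : charDegree χ = ∑ ψ : IrrCharacter G, m ψ * charDegree (ψ : G → ℂ) := by
    apply Char.charDegree_eq_of_apply_one
    rw [hm, Finset.sum_apply]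
    push_cast
    refine Finset.sum_congr rfl fun ψ _ => ?_
    rw [Pi.smul_apply, smul_eq_mul, Char.apply_one_eq_charDegree (Char.isCharacter_of_isIrr ψ.2)]
  refine le_trans ?_ (hsum ▸ h.deg)
  exact le_trans (Nat.le_mul_of_pos_left _ hpos)
    (Finset.single_le_sum (f := fun ψ : IrrCharacter G => m ψ * charDegree (ψ : G → ℂ))
      (fun _ _ => Nat.zero_le _) (Finset.mem_univ φ))

/-- All prime divisors of the order exceed `N + 1`. -/
def IsBig (N : ℕ) (H : Subgroup G) : Prop :=
  ∀ p : ℕ, p.Prime → p ∣ Nat.card H → N + 1 < p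

/-- A Hall subgroup for the primes greater than `N + 1`. -/
def IsBigHall (N : ℕ) (H : Subgroup G) : Prop :=
  IsBig N H ∧ ∀ p : ℕ, p.Prime → N + 1 < p → ¬ p ∣ H.index

theorem commute_of_isBig [Finite G] {χ : G → ℂ} {N : ℕ} (h : Faith χ N) {H : Subgroup G}
    (hH : IsBig N H) {a b : G} (ha : a ∈ H) (hb : b ∈ H) : a * b = b * a := by
  set c : H := ⟨a, ha⟩ * ⟨b, hb⟩ * (⟨a, ha⟩ : H)⁻¹ * (⟨b, hb⟩ : H)⁻¹ with hc
  by_cases h1 : c = 1
  · have := commutatorElement_eq_one_iff_commute.mp h1
    exact congrArg Subtype.val this.eq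
  obtain ⟨φ, hφ, hd, hne⟩ := (h.restrict H).exists_constituent h1
  exfalso
  apply hne
  have hd1 : charDegree φ = 1 := by
    by_contra hne1
    obtain ⟨p, hp, hpd⟩ := Nat.exists_prime_and_dvd hne1
    have := hH p hp (hpd.trans (Char.charDegree_dvd_card hφ))
    have := Nat.le_of_dvd (Char.charDegree_pos hφ) hpd
    omega
  have hφ1 : φ 1 = 1 := by
    rw [Char.apply_one_eq_charDegree (Char.isCharacter_of_isIrr hφ), hd1, Nat.cast_one]
  obtain ⟨l, hl⟩ := Char.exists_hom_of_degree_one (Char.isCharacter_of_isIrr hφ) hφ1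
  rw [hl c, hl 1, hc]
  simp only [map_mul, map_inv, map_one]
  rw [mul_comm (l ⟨a, ha⟩), mul_inv_cancel_right, mul_inv_cancel]

/-- A character of small degree is moved by a Galois automorphism at an element of large prime
order outside its kernel. -/
theorem exists_moved [Finite G] {φ : G → ℂ} (hφ : IsCharacter G φ) {p : ℕ} (hp : p.Prime)
    (hdeg : charDegree φ + 1 < p) {x : G} (hx : orderOf x = p) (hne : φ x ≠ φ 1) :
    ∃ k : ℕ, Nat.Coprime k (Nat.card G) ∧ φ (x ^ k) ≠ φ x ∧
      ∀ g : G, ¬ p ∣ orderOf g → g ^ k = g := by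
  obtain ⟨a, m, hm, hcard⟩ :=
    Nat.exists_eq_pow_mul_and_not_dvd (Nat.card_pos (α := G)).ne' p hp.ne_one
  have hcop : (p ^ a).Coprime m := ((Nat.Prime.coprime_iff_not_dvd hp).mpr hm).pow_left a
  have hk : ∀ j : ℕ, ¬ p ∣ j → ∃ k : ℕ, Nat.Coprime k (Nat.card G) ∧ x ^ k = x ^ j ∧
      ∀ g : G, ¬ p ∣ orderOf g → g ^ k = g := by
    intro j hj
    obtain ⟨k, hk1, hk2⟩ := Nat.chineseRemainder hcop j 1
    refine ⟨k, ?_, ?_, fun g hg => ?_⟩
    · rw [hcard]
      refine Nat.Coprime.mul_right ?_ ?_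
      · rw [Nat.coprime_iff_gcd_eq_one, hk1.gcd_eq, ← Nat.coprime_iff_gcd_eq_one]
        exact (((Nat.Prime.coprime_iff_not_dvd hp).mpr hj).pow_left a).symm
      · rw [Nat.coprime_iff_gcd_eq_one, hk2.gcd_eq, Nat.gcd_one_left]
    · rw [pow_eq_pow_iff_modEq, hx]
      refine hk1.of_dvd (dvd_pow_self p ?_)
      rintro rfl
      apply hm
      have := orderOf_dvd_natCard x
      rwa [hx, hcard, pow_zero, one_mul] at this
    · conv_rhs => rw [← pow_one g]
      rw [pow_eq_pow_iff_modEq]
      refine hk2.of_dvd (Nat.Coprime.dvd_of_dvd_mul_left ?_ (hcard ▸ orderOf_dvd_natCard g))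
      exact ((Nat.Prime.coprime_iff_not_dvd hp).mpr hg).symm.pow_right a
  by_contra! hall
  apply hne
  -- `φ` would be constant on the non-identity elements of `⟨x⟩`
  set Z := zpowers x with hZ
  letI := Fintype.ofFinite Z
  have hZp : Nat.card Z = p := (Nat.card_zpowers x).trans hx
  have hconst : ∀ z : Z, z ≠ 1 → φ z = φ x := by
    rintro ⟨z, hz⟩ hz1
    obtain ⟨j, rfl⟩ := mem_powers_iff_mem_zpowers.mpr hz
    have hj : ¬ p ∣ j := fun hd => hz1 (Subtype.ext (by
      show x ^ j = 1
      rwa [← orderOf_dvd_iff_pow_eq_one, hx]))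
    obtain ⟨k, hk1, hk2, hk3⟩ := hk j hj
    by_contra hc
    obtain ⟨g, hg, hg'⟩ := hall k hk1 (fun h => hc (by
      show φ (x ^ j) = φ x
      rw [← hk2]; exact h))
    exact hg' (hk3 g hg)
  obtain ⟨m0, hm0⟩ := Char.classInner_natCast (Char.isCharacter_restrict hφ Z)
    (Char.isCharacter_one (G := Z))
  classical
  have hsum : ∑ z : Z, φ z = φ 1 + ((p : ℂ) - 1) * φ x := by
    rw [← Finset.add_sum_erase Finset.univ _ (Finset.mem_univ (1 : Z)),
      Finset.sum_congr rfl fun z hz => hconst z (Finset.ne_of_mem_erase hz)]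
    rw [Finset.sum_const, Finset.card_erase_of_mem (Finset.mem_univ _), Finset.card_univ,
      ← Nat.card_eq_fintype_card, hZp, nsmul_eq_mul, Nat.cast_sub hp.one_le]
    simp
  have heq : ((p : ℂ) - 1) * φ x = (p : ℂ) * m0 - (charDegree φ : ℂ) := by
    have hpne : (p : ℂ) ≠ 0 := Nat.cast_ne_zero.mpr hp.ne_zero
    have h2 : classInner (fun z : Z => φ z) (fun _ => (1 : ℂ)) = (p : ℂ)⁻¹ * ∑ z : Z, φ z := by
      rw [classInner, hZp]; simp
    rw [h2, hsum, Char.apply_one_eq_charDegree hφ] at hm0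
    have := congrArg (fun t => (p : ℂ) * t) hm0
    simp only [← mul_assoc, mul_inv_cancel₀ hpne, one_mul] at this
    linear_combination this
  have hp1 : (p : ℂ) - 1 ≠ 0 := sub_ne_zero.mpr (by exact_mod_cast hp.ne_one)
  obtain ⟨c, hc⟩ := CharGalois.exists_int_of_ratCast
    (q := ((p : ℚ) * m0 - charDegree φ) / ((p : ℚ) - 1)) (by
      push_cast
      rw [← heq, mul_div_cancel_left₀ _ hp1]
      exact Char.char_isIntegral hφ x)
  have hcx : φ x = (c : ℂ) := by
    rw [← hc]; push_cast
    rw [← heq, mul_div_cancel_left₀ _ hp1]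
  rw [hcx] at heq
  have heq' : ((p : ℤ) - 1) * c = p * m0 - charDegree φ := by exact_mod_cast heq
  have hle : c ≤ charDegree φ := by
    have h2 := Char.norm_apply_le hφ x
    rw [hcx, Char.apply_one_eq_charDegree hφ, Complex.norm_intCast, Complex.norm_natCast] at h2
    exact_mod_cast (le_abs_self (c : ℝ)).trans h2
  have hp1' : (0 : ℤ) < p - 1 := by have := hp.two_le; omega
  have hc0 : 0 ≤ c := by
    by_contra hneg
    have h3 : (p : ℤ) * m0 ≥ 0 := by positivity
    have h4 : ((p : ℤ) - 1) * c ≤ -((p : ℤ) - 1) := by nlinarith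
    omega
  have hdvd : (p : ℤ) ∣ (charDegree φ : ℤ) - c := ⟨m0 - c, by linarith⟩
  have := Int.eq_zero_of_dvd_of_nonneg_of_lt (by omega) (by omega) hdvd
  rw [hcx, Char.apply_one_eq_charDegree hφ]
  exact_mod_cast (by omega : c = (charDegree φ : ℤ))

/-- Blichfeldt's lemma: two large primes are the orders of commuting elements. -/
theorem exists_commute [Finite G] {χ : G → ℂ} {N : ℕ} (h : Faith χ N) {p q : ℕ} (hp : p.Prime)
    (hq : q.Prime) (hpN : N + 1 < p) (hqN : N + 1 < q) (hpG : p ∣ Nat.card G)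
    (hqG : q ∣ Nat.card G) : ∃ x y : G, orderOf x = p ∧ orderOf y = q ∧ Commute x y := by
  haveI := Fact.mk hp
  haveI := Fact.mk hq
  obtain ⟨x, hx⟩ := exists_prime_orderOf_dvd_card' p hpG
  obtain ⟨y, hy⟩ := exists_prime_orderOf_dvd_card' q hqG
  by_cases hc : Commute x y
  · exact ⟨x, y, hx, hy, hc⟩
  obtain ⟨φ, hφ, hd, hne⟩ := h.exists_constituent
    (g := x * y * x⁻¹ * y⁻¹) (fun h1 => hc (commutatorElement_eq_one_iff_commute.mp h1))
  have hφc := Char.isCharacter_of_isIrr hφ
  haveI := Char.charKer_normal hφc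
  have hxn : φ x ≠ φ 1 := fun hx1 => hne ((Char.mem_charKer hφc).mp (by
    have hmem := (Char.mem_charKer hφc).mpr hx1
    rw [mul_assoc, mul_assoc, ← mul_assoc y]
    exact mul_mem hmem ((inferInstance : (Char.charKer φ).Normal).conj_mem _ (inv_mem hmem) y)))
  have hyn : φ y ≠ φ 1 := fun hy1 => hne ((Char.mem_charKer hφc).mp (by
    have hmem := (Char.mem_charKer hφc).mpr hy1
    exact mul_mem ((inferInstance : (Char.charKer φ).Normal).conj_mem _ hmem x) (inv_mem hmem)))
  obtain ⟨k, hk, hkx, hkfix⟩ := exists_moved hφc hp (by omega) hx hxn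
  obtain ⟨l, hl, hly, hlfix⟩ := exists_moved hφc hq (by omega) hy hyn
  letI := Fintype.ofFinite G
  have hk' := CharGalois.isIrrCharacter_pow hk hφ
  have hl' := CharGalois.isIrrCharacter_pow hl hφ
  obtain ⟨r, hr⟩ := Char.classInner_natCast (Char.isCharacter_of_isIrr hk') (Char.isCharacter_of_isIrr hl')
  have hD : classInner ((fun g => φ (g ^ k)) - φ) ((fun g => φ (g ^ l)) - φ) = (r : ℂ) + 1 := by
    rw [Char.classInner_sub_left, Char.classInner_sub_right, Char.classInner_sub_right, hr,
      Char.classInner_irr_ne hk' hφ (fun e => hkx (congrFun e x)),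
      Char.classInner_irr_ne hφ hl' (fun e => hly (congrFun e y).symm), Char.classInner_irr_self hφ]
    ring
  obtain ⟨g, -, hg⟩ := Finset.exists_ne_zero_of_sum_ne_zero (s := (Finset.univ : Finset G))
    (f := fun g => ((fun g => φ (g ^ k)) - φ) g * conj (((fun g => φ (g ^ l)) - φ) g)) (by
      intro h0
      rw [classInner, h0, mul_zero] at hD
      exact absurd hD.symm (Nat.cast_add_one_ne_zero r))
  simp only [Pi.sub_apply, ne_eq, mul_eq_zero, map_eq_zero, not_or, sub_eq_zero] at hg
  have hpg : p ∣ orderOf g := by_contra fun h1 => hg.1 (by rw [hkfix g h1])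
  have hqg : q ∣ orderOf g := by_contra fun h1 => hg.2 (by rw [hlfix g h1])
  refine ⟨g ^ (orderOf g / p), g ^ (orderOf g / q), ?_, ?_, Commute.pow_pow_self g _ _⟩
  · rw [orderOf_pow_orderOf_div (orderOf_pos g).ne' hpg]
  · rw [orderOf_pow_orderOf_div (orderOf_pos g).ne' hqg]

theorem eq_one_of_central_of_perfect [Finite G] {χ : G → ℂ} {N : ℕ} (h : Faith χ N)
    (hperf : commutator G = ⊤) {p : ℕ} (hp : p.Prime) (hpN : N + 1 < p) {x : G}
    (hx : orderOf x = p) : x ∉ center G := by
  intro hxc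
  haveI := Fact.mk hp
  obtain ⟨P, hP⟩ := (IsPGroup.of_card (n := 1) (by rw [Nat.card_zpowers, hx, pow_one]) :
    IsPGroup p (zpowers x)).exists_le_sylow
  have hbig : IsBig N (P : Subgroup G) := by
    intro q hq hqd
    obtain ⟨j, hj⟩ := IsPGroup.iff_card.mp P.isPGroup'
    rw [hj] at hqd
    rwa [(Nat.prime_dvd_prime_iff_eq hq hp).mp (hq.dvd_of_dvd_pow hqd)]
  letI : CommGroup P := { (inferInstance : Group P) with
    mul_comm := fun a b => Subtype.ext (commute_of_isBig h hbig a.2 b.2) }
  have key : ∀ (k : ℕ) (g₀ : G), g₀⁻¹ * x ^ k * g₀ ∈ (P : Subgroup G) →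
      g₀⁻¹ * x ^ k * g₀ = x ^ k := by
    intro k g₀ _
    rw [mul_assoc, ← mem_center_iff.mp (pow_mem hxc k) g₀, inv_mul_cancel_left]
  have h1 := MonoidHom.transfer_eq_pow (MonoidHom.id P) x key
  have hker : commutator G ≤ (MonoidHom.transfer (MonoidHom.id P)).ker := by
    rw [commutator_def, commutator_le]
    intro a _ b _
    rw [MonoidHom.mem_ker, map_commutatorElement]
    exact commutatorElement_eq_one_iff_commute.mpr (Commute.all _ _)
  rw [MonoidHom.mem_ker.mp (hker (hperf ▸ mem_top x))] at h1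
  have h2 : x ^ (P : Subgroup G).index = 1 := (congrArg Subtype.val h1).symm
  rw [← orderOf_dvd_iff_pow_eq_one, hx] at h2
  exact P.not_dvd_index h2

theorem isBigHall_map [Finite G] {N : ℕ} {K : Subgroup G} {H : Subgroup K} (hH : IsBigHall N H)
    (hK : ∀ p : ℕ, p.Prime → N + 1 < p → ¬ p ∣ K.index) : IsBigHall N (H.map K.subtype) := by
  refine ⟨fun p hp hd => hH.1 p hp ?_, fun p hp hpN hd => ?_⟩
  · rwa [card_map_of_injective K.subtype_injective] at hd
  · rw [index_map_subtype, hp.dvd_mul] at hd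
    exact hd.elim (hH.2 p hp hpN) (hK p hp hpN)

theorem index_centralizer_conj (g y : G) :
    (centralizer {g * y * g⁻¹} : Subgroup G).index = (centralizer {y} : Subgroup G).index := by
  have : (centralizer {g * y * g⁻¹} : Subgroup G)
      = (centralizer {y} : Subgroup G).map (MulAut.conj g).toMonoidHom := by
    ext z
    rw [Subgroup.mem_map_equiv, mem_centralizer_singleton_iff, mem_centralizer_singleton_iff,
      MulAut.conj_symm_apply]
    constructor <;> intro hz
    · calc g⁻¹ * z * g * y = g⁻¹ * (z * (g * y * g⁻¹)) * g := by group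
        _ = g⁻¹ * (g * y * g⁻¹ * z) * g := by rw [hz]
        _ = y * (g⁻¹ * z * g) := by group
    · calc z * (g * y * g⁻¹) = g * (g⁻¹ * z * g * y) * g⁻¹ := by group
        _ = g * (y * (g⁻¹ * z * g)) * g⁻¹ := by rw [hz]
        _ = g * y * g⁻¹ * z := by group
  rw [this]
  exact index_map_of_bijective (f := (MulAut.conj g).toMonoidHom) (MulAut.conj g).bijective _

theorem hall_of_perfect [Finite G] {χ : G → ℂ} {N : ℕ} (h : Faith χ N) (hperf : commutator G = ⊤)
    (ih : ∀ K : Subgroup G, K ≠ ⊤ → ∃ H : Subgroup K, IsBigHall N H) :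
    ∃ H : Subgroup G, IsBigHall N H := by
  by_cases hex : ∃ q : ℕ, q.Prime ∧ N + 1 < q ∧ q ∣ Nat.card G
  swap
  · exact ⟨⊥, fun p hp hd => absurd (card_bot (G := G) ▸ hd) hp.not_dvd_one,
      fun p hp hpN hd => hex ⟨p, hp, hpN, index_bot (G := G) ▸ hd⟩⟩
  obtain ⟨q, hq, hqN, hqG⟩ := hex
  haveI := Fact.mk hq
  have hproper : ∀ {p : ℕ} {x : G}, p.Prime → N + 1 < p → orderOf x = p →
      (centralizer {x} : Subgroup G) ≠ ⊤ := by
    intro p x hp hpN hx htop
    refine eq_one_of_central_of_perfect h hperf hp hpN hx (mem_center_iff.mpr fun g => ?_)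
    exact mem_centralizer_singleton_iff.mp (htop ▸ mem_top g)
  have hsame : ∀ {p : ℕ} {x : G}, p.Prime → N + 1 < p → orderOf x = p →
      ¬ p ∣ (centralizer {x} : Subgroup G).index := by
    intro p x hp hpN hx
    haveI := Fact.mk hp
    obtain ⟨P, hP⟩ := (IsPGroup.of_card (n := 1) (by rw [Nat.card_zpowers, hx, pow_one]) :
      IsPGroup p (zpowers x)).exists_le_sylow
    have hbig : IsBig N (P : Subgroup G) := by
      intro r hr hrd
      obtain ⟨j, hj⟩ := IsPGroup.iff_card.mp P.isPGroup'
      rw [hj] at hrd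
      rwa [(Nat.prime_dvd_prime_iff_eq hr hp).mp (hr.dvd_of_dvd_pow hrd)]
    have hle : (P : Subgroup G) ≤ centralizer {x} := fun z hz =>
      mem_centralizer_singleton_iff.mpr (commute_of_isBig h hbig hz (hP (mem_zpowers x)))
    exact fun hd => P.not_dvd_index (hd.trans (index_dvd_of_le hle))
  have hfull : ∀ {p : ℕ}, p.Prime → N + 1 < p → ∀ y : G, orderOf y = q →
      ¬ p ∣ (centralizer {y} : Subgroup G).index := by
    intro p hp hpN y hy
    by_cases hpq : p = q
    · subst hpq; exact hsame hp hpN hy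
    intro hd
    obtain ⟨x, y₀, hx, hy₀, hxy⟩ := exists_commute h hp hq hpN hqN
      (hd.trans (index_dvd_card _)) hqG
    obtain ⟨Hx, hHx⟩ := ih _ (hproper hp hpN hx)
    set H1 := Hx.map (centralizer {x} : Subgroup G).subtype with hH1
    have hH1big : IsBig N H1 := fun r hr hr' => hHx.1 r hr (by
      rwa [hH1, card_map_of_injective (Subgroup.subtype_injective _)] at hr')
    have hH1p : ¬ p ∣ H1.index := by
      rw [hH1, index_map_subtype, hp.dvd_mul]
      exact fun h1 => h1.elim (hHx.2 p hp hpN) (hsame hp hpN hx)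
    have hqC : q ∣ Nat.card (centralizer {x} : Subgroup G) := by
      have hmem : y₀ ∈ (centralizer {x} : Subgroup G) :=
        mem_centralizer_singleton_iff.mpr hxy.symm.eq
      rw [← hy₀, ← orderOf_mk y₀ hmem]
      exact orderOf_dvd_natCard _
    have hqH : q ∣ Nat.card Hx := by
      rw [← Hx.card_mul_index, hq.dvd_mul] at hqC
      exact hqC.resolve_right (hHx.2 q hq hqN)
    obtain ⟨y₁, hy₁⟩ := exists_prime_orderOf_dvd_card' q
      (show q ∣ Nat.card H1 by rwa [hH1, card_map_of_injective (Subgroup.subtype_injective _)])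
    have hy₁o : orderOf (y₁ : G) = q := by rw [Subgroup.orderOf_coe, hy₁]
    have hC1p : ¬ p ∣ (centralizer {(y₁ : G)} : Subgroup G).index := fun h1 =>
      hH1p (h1.trans (index_dvd_of_le fun z hz =>
        mem_centralizer_singleton_iff.mpr (commute_of_isBig h hH1big hz y₁.2)))
    obtain ⟨H2, hH2⟩ := ih _ (hproper hq hqN hy₁o)
    set H2' := H2.map (centralizer {(y₁ : G)} : Subgroup G).subtype with hH2'
    have hH2big : IsBig N H2' := fun r hr hr' => hH2.1 r hr (by
      rwa [hH2', card_map_of_injective (Subgroup.subtype_injective _)] at hr')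
    have hH2p : ∀ r, r.Prime → N + 1 < r → ¬ r ∣ (centralizer {(y₁ : G)} : Subgroup G).index →
        ¬ r ∣ H2'.index := fun r hr hrN hr1 => by
      rw [hH2', index_map_subtype, hr.dvd_mul]
      exact fun h1 => h1.elim (hH2.2 r hr hrN) hr1
    obtain ⟨R⟩ : Nonempty (Sylow q H2') := inferInstance
    have hRG : ¬ q ∣ ((R : Subgroup H2').map H2'.subtype).index := by
      rw [index_map_subtype, hq.dvd_mul]
      exact fun h1 => h1.elim R.not_dvd_index (hH2p q hq hqN (hsame hq hqN hy₁o))
    obtain ⟨Q, hQ⟩ := (IsPGroup.of_card (n := 1) (by rw [Nat.card_zpowers, hy, pow_one]) :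
      IsPGroup q (zpowers y)).exists_le_sylow
    set R' : Sylow q G := (R.isPGroup'.map H2'.subtype).toSylow hRG with hR'
    obtain ⟨g, hg⟩ := MulAction.exists_smul_eq G Q R'
    have hgy : g * y * g⁻¹ ∈ H2' := by
      have h1 : g * y * g⁻¹ ∈ (R' : Subgroup G) := by
        rw [← hg]; exact smul_mem_pointwise_smul _ _ _ (hQ (mem_zpowers y))
      exact map_subtype_le _ h1
    have h3 : ¬ p ∣ (centralizer {g * y * g⁻¹} : Subgroup G).index := fun h1 =>
      hH2p p hp hpN hC1p (h1.trans (index_dvd_of_le fun z hz =>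
        mem_centralizer_singleton_iff.mpr (commute_of_isBig h hH2big hz hgy)))
    rw [index_centralizer_conj] at h3
    exact h3 hd
  obtain ⟨y, hy⟩ := exists_prime_orderOf_dvd_card' q hqG
  obtain ⟨H, hH⟩ := ih _ (hproper hq hqN hy)
  exact ⟨_, isBigHall_map hH fun p hp hpN => hfull hp hpN y hy⟩

theorem exists_normal_prime_index [Finite G] (h : commutator G ≠ ⊤) :
    ∃ M : Subgroup G, M.Normal ∧ M.index.Prime := by
  obtain ⟨M, hM, hcM⟩ := (eq_top_or_exists_le_coatom (commutator G)).resolve_left h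
  haveI hn : M.Normal := ⟨fun m hm g => by
    have := mul_mem (hcM (commutator_def G ▸ commutator_mem_commutator (mem_top g) (mem_top m))) hm
    simpa [commutatorElement_def, mul_assoc] using this⟩
  refine ⟨M, hn, ?_⟩
  have h1 : M.index ≠ 1 := fun h1 => hM.1 (index_eq_one.mp h1)
  obtain ⟨r, hr, hrd⟩ := Nat.exists_prime_and_dvd h1
  haveI := Fact.mk hr
  rw [index_eq_card] at hrd ⊢
  obtain ⟨z, hz⟩ := exists_prime_orderOf_dvd_card' r hrd
  have hle : M < (zpowers z).comap (QuotientGroup.mk' M) := by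
    refine lt_of_le_of_ne (fun m hm => ?_) fun he => ?_
    · rw [mem_comap, QuotientGroup.mk'_apply, (QuotientGroup.eq_one_iff m).mpr hm]; exact one_mem _
    · obtain ⟨w, rfl⟩ := QuotientGroup.mk'_surjective M z
      have hw : w ∈ M := he ▸ mem_comap.mpr (mem_zpowers _)
      rw [QuotientGroup.mk'_apply, (QuotientGroup.eq_one_iff w).mpr hw, orderOf_one] at hz
      exact hr.ne_one hz.symm
  have htop : zpowers z = ⊤ := by
    rw [← map_comap_eq_self_of_surjective (QuotientGroup.mk'_surjective M) (zpowers z), hM.2 _ hle,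
      map_top_of_surjective _ (QuotientGroup.mk'_surjective M)]
  rw [← card_top, ← htop, Nat.card_zpowers, hz]
  exact hr

theorem hall_of_normal [Finite G] {χ : G → ℂ} {N : ℕ} (h : Faith χ N) {M : Subgroup G} [M.Normal]
    (hM : M.index.Prime) (ih : ∀ K : Subgroup G, K ≠ ⊤ → ∃ H : Subgroup K, IsBigHall N H) :
    ∃ H : Subgroup G, IsBigHall N H := by
  have hMtop : M ≠ ⊤ := fun he => hM.ne_one (index_eq_one.mpr he)
  obtain ⟨H0, hH0⟩ := ih M hMtop
  set r := M.index with hr
  by_cases hrN : N + 1 < r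
  swap
  · exact ⟨_, isBigHall_map hH0 fun p hp hpN hd => hrN
      ((Nat.prime_dvd_prime_iff_eq hp hM).mp hd ▸ hpN)⟩
  set H := H0.map M.subtype with hH
  have hHbig : IsBig N H := fun s hs hs' => hH0.1 s hs (by
    rwa [hH, card_map_of_injective (Subgroup.subtype_injective _)] at hs')
  have hHM : H ≤ M := map_subtype_le _
  by_cases hall : ∀ s : ℕ, s.Prime → ∀ S : Sylow s H, ((S : Subgroup H).map H.subtype).Normal
  · have hHn : H.Normal := by
      refine ⟨fun x hx g => ?_⟩
      have hle : H ≤ H.comap (MulAut.conj g : G →* G) := by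
        have hdvd : Nat.card H ∣ Nat.card ↥(H ⊓ H.comap (MulAut.conj g : G →* G)) := by
          refine (Nat.dvd_iff_prime_pow_dvd_dvd _ _).mpr fun s k hs hk => ?_
          haveI := Fact.mk hs
          obtain ⟨S⟩ : Nonempty (Sylow s H) := inferInstance
          have h1 : s ^ k ∣ Nat.card (S : Subgroup H) := by
            rw [S.card_eq_multiplicity]
            exact pow_dvd_pow _ ((hs.pow_dvd_iff_le_factorization Nat.card_pos.ne').mp hk)
          refine h1.trans ?_
          rw [← (card_map_of_injective H.subtype_injective :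
            Nat.card ↥((S : Subgroup H).map H.subtype) = Nat.card ↥(S : Subgroup H))]
          refine card_dvd_of_le (le_inf (map_subtype_le _) fun z hz => ?_)
          exact (map_subtype_le _ ((hall s hs S).conj_mem z hz g) : g * z * g⁻¹ ∈ H)
        have := eq_of_le_of_card_ge inf_le_left (Nat.le_of_dvd Nat.card_pos hdvd)
        exact inf_eq_left.mp this
      exact hle hx
    haveI := Fact.mk hM
    obtain ⟨R⟩ : Nonempty (Sylow r G) := inferInstance
    refine ⟨(R : Subgroup G) ⊔ H, fun s hs hd => ?_, fun s hs hsN hd => ?_⟩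
    · have e := Coprime.card_sup_mul_card_inf_of_le_normalizer (A := (R : Subgroup G)) (N := H)
        (normalizer_eq_top (H := H) ▸ le_top)
      have : s ∣ Nat.card (R : Subgroup G) * Nat.card H := e ▸ hd.mul_right _
      rcases hs.dvd_mul.mp this with h1 | h1
      · obtain ⟨j, hj⟩ := IsPGroup.iff_card.mp R.isPGroup'
        rw [hj] at h1
        rwa [(Nat.prime_dvd_prime_iff_eq hs hM).mp (hs.dvd_of_dvd_pow h1)]
      · exact hHbig s hs h1
    · by_cases hsr : s = r
      · subst hsr
        exact R.not_dvd_index (hd.trans (index_dvd_of_le le_sup_left))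
      · have := hd.trans (index_dvd_of_le (le_sup_right : H ≤ (R : Subgroup G) ⊔ H))
        rw [hH, index_map_subtype, hs.dvd_mul] at this
        exact this.elim (hH0.2 s hs hsN) (fun h1 => hsr ((Nat.prime_dvd_prime_iff_eq hs hM).mp h1))
  simp only [not_forall] at hall
  obtain ⟨s, hs, S, hS⟩ := hall
  haveI := Fact.mk hs
  set S' := (S : Subgroup H).map H.subtype with hS'
  set K := normalizer (S' : Set G) with hK
  have hKtop : K ≠ ⊤ := fun he => hS (normalizer_eq_top_iff.mp he)
  have hsH : S' ≠ ⊥ := fun he => hS (he ▸ inferInstance)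
  have hsN : N + 1 < s := hHbig s hs (by
    rcases Nat.eq_zero_or_pos ((Nat.card H).factorization s) with h0 | hpos
    · exfalso
      apply hsH
      rw [← card_eq_one, hS', card_map_of_injective H.subtype_injective, S.card_eq_multiplicity, h0,
        pow_zero]
    · exact Nat.dvd_of_factorization_pos hpos.ne')
  have hHK : H ≤ K := by
    intro z hz
    rw [hK, mem_normalizer_iff]
    intro w
    constructor
    · intro hw
      rwa [show z * w * z⁻¹ = w by
        rw [commute_of_isBig h hHbig hz (map_subtype_le _ hw), mul_inv_cancel_right]]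
    · intro hw
      have : z * w * z⁻¹ = w := by
        have hw' := commute_of_isBig h hHbig (inv_mem hz) (map_subtype_le _ hw)
        have e : w = z⁻¹ * (z * w * z⁻¹) * z := by group
        conv_rhs => rw [e, hw', inv_mul_cancel_right]
      rwa [this] at hw
  have hSM : S' ≤ M := (map_subtype_le _).trans hHM
  have hnd : ¬ s ∣ (S'.subgroupOf M).index := by
    have : S'.relIndex M = (S : Subgroup H).index * H0.index := by
      rw [← relIndex_mul_relIndex S' H M (map_subtype_le _) hHM]
      congr 1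
      · rw [relIndex, hS', subgroupOf, comap_map_eq_self_of_injective H.subtype_injective]
      · rw [relIndex, hH, subgroupOf, comap_map_eq_self_of_injective M.subtype_injective]
    show ¬ s ∣ S'.relIndex M
    rw [this, hs.dvd_mul]
    exact fun h1 => h1.elim S.not_dvd_index (hH0.2 s hs hsN)
  have hSp : IsPGroup s (S'.subgroupOf M) :=
    (S.isPGroup'.map H.subtype).of_equiv (subgroupOfEquivOfLe hSM).symm
  have hfr := Sylow.normalizer_sup_eq_top (hSp.toSylow hnd)
  have hcoe : ((hSp.toSylow hnd : Sylow s M) : Subgroup M).map M.subtype = S' := by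
    show (S'.subgroupOf M).map M.subtype = S'
    rw [map_subgroupOf_eq_of_le hSM]
  rw [hcoe] at hfr
  have hidx : K.index = (K ⊓ M).relIndex M := by
    have e := Coprime.card_sup_mul_card_inf_of_le_normalizer (A := K) (N := M)
      (normalizer_eq_top (H := M) ▸ le_top)
    rw [hfr, card_top] at e
    have e1 := K.card_mul_index
    have e2 : Nat.card ↥(K ⊓ M) * (K ⊓ M).relIndex M = Nat.card M := by
      rw [relIndex, ← Coprime.card_subgroupOf (inf_le_right : K ⊓ M ≤ M)]
      exact card_mul_index _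
    apply Nat.eq_of_mul_eq_mul_left (Nat.card_pos (α := K))
    apply Nat.eq_of_mul_eq_mul_right (Nat.card_pos (α := ↥(K ⊓ M)))
    rw [e1, e, mul_assoc, mul_comm ((K ⊓ M).relIndex M), e2]
  obtain ⟨H', hH'⟩ := ih K hKtop
  refine ⟨_, isBigHall_map hH' fun p hp hpN hd => hH0.2 p hp hpN ?_⟩
  rw [hidx] at hd
  refine hd.trans ?_
  have : (K ⊓ M).relIndex M ∣ H.relIndex M := relIndex_dvd_of_le_left M (le_inf hHK hHM)
  rwa [show H.relIndex M = H0.index by
    rw [relIndex, hH, subgroupOf, comap_map_eq_self_of_injective M.subtype_injective]] at this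

theorem exists_bigHall_aux : ∀ (m : ℕ) {G : Type u} [Group G] [Finite G] {χ : G → ℂ} {N : ℕ},
    Nat.card G = m → Faith χ N → ∃ H : Subgroup G, IsBigHall N H := by
  intro m
  induction m using Nat.strong_induction_on with
  | _ m ihm =>
    intro G _ _ χ N hm h
    have ih : ∀ K : Subgroup G, K ≠ ⊤ → ∃ H : Subgroup K, IsBigHall N H := fun K hK =>
      ihm _ (hm ▸ lt_of_le_of_ne (card_le_card_group K) fun he => hK (eq_top_of_card_eq K he)) rfl
        (h.restrict K)
    by_cases hperf : commutator G = ⊤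
    · exact hall_of_perfect h hperf ih
    · obtain ⟨M, hMn, hM⟩ := exists_normal_prime_index hperf
      exact hall_of_normal h hM ih

/-- Blichfeldt: there is an abelian Hall subgroup for the primes greater than `N + 1`. -/
theorem exists_abelian_bigHall [Finite G] {χ : G → ℂ} {N : ℕ} (h : Faith χ N) :
    ∃ H : Subgroup G, IsBigHall N H ∧ ∀ a ∈ H, ∀ b ∈ H, a * b = b * a := by
  obtain ⟨H, hH⟩ := exists_bigHall_aux _ rfl h
  exact ⟨H, hH, fun _ ha _ hb => commute_of_isBig h hH.1 ha hb⟩

end Cfsg.Agent.Lib.Blichfeldt
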